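import Mathlib.RingTheory.Bialgebra.Hom
import Mathlib.RingTheory.Bialgebra.MonoidAlgebra
import Mathlib.RingTheory.HopfAlgebra.Basic
import Mathlib.RingTheory.FiniteType
import Mathlib.Algebra.DirectSum.Decomposition
import Mathlib.Algebra.DirectSum.Module
import Mathlib.Algebra.Group.Subgroup.Finite
import Mathlib.GroupTheory.Finiteness
import Mathlib.GroupTheory.SpecificGroups.Cyclic
import Mathlib.Data.ZMod.Basic

/-!
# Subgroups `μ_n` from gradings compatible with the comultiplication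

A grading of a commutative Hopf algebra which is respected by right comultiplication gives a map to a group
algebra; if it is nontrivial at the identity, some `μ_n` of prime order is a closed subgroup.
-/

universe u v w

open TensorProduct

namespace GrothLib.UnipMu16

/-- A nontrivial finitely generated commutative group surjects on a group of prime order. -/
theorem exists_surjective_zmod {H : Type*} [CommGroup H] [Group.FG H] [Nontrivial H] :
    ∃ (n : ℕ) (_ : n.Prime) (ψ : H →* Multiplicative (ZMod n)), Function.Surjective ψ := by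
  classical
  haveI : Module.Finite ℤ (Additive H) := Module.Finite.iff_addGroup_fg.2 inferInstance
  haveI : IsCoatomic (Subgroup H) := by
    refine (Subgroup.toAddSubgroup.trans AddSubgroup.toIntSubmodule).isCoatomic_iff.2 ?_
    exact CompleteLattice.coatomic_of_top_compact ((Submodule.fg_iff_compact _).1 Module.Finite.fg_top)
  obtain h | ⟨M, hM, -⟩ := IsCoatomic.eq_top_or_exists_le_coatom (⊥ : Subgroup H)
  · exact absurd h bot_ne_top
  haveI : Nontrivial (H ⧸ M) := QuotientGroup.nontrivial_iff.2 hM.1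
  haveI : IsSimpleGroup (H ⧸ M) := by
    refine ⟨fun K _ => ?_⟩
    have hle : M ≤ K.comap (QuotientGroup.mk' M) := fun x hx => by
      rw [Subgroup.mem_comap, QuotientGroup.mk'_apply, (QuotientGroup.eq_one_iff x).2 hx]; exact one_mem _
    rcases hle.eq_or_lt with h | h
    · left
      rw [← Subgroup.map_comap_eq_self_of_surjective (QuotientGroup.mk'_surjective M) K, ← h]
      exact (Subgroup.map_eq_bot_iff _).2 (by rw [QuotientGroup.ker_mk'])
    · right
      rw [← Subgroup.map_comap_eq_self_of_surjective (QuotientGroup.mk'_surjective M) K, hM.2 _ h]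
      exact Subgroup.map_top_of_surjective _ (QuotientGroup.mk'_surjective M)
  have hp : (Nat.card (H ⧸ M)).Prime := IsSimpleGroup.prime_card
  let e : Multiplicative (ZMod (Nat.card (H ⧸ M))) ≃* H ⧸ M := zmodCyclicMulEquiv IsSimpleGroup.isCyclic
  exact ⟨_, hp, e.symm.toMonoidHom.comp (QuotientGroup.mk' M), e.symm.surjective.comp (QuotientGroup.mk'_surjective M)⟩

variable {k : Type u} [Field k] {A : Type v} [CommRing A]

section
variable [Bialgebra k A] {Λ : Type w} [CommGroup Λ] [DecidableEq Λ] (𝒜 : Λ → Submodule k A)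

/-- The map to a group algebra given by the values at the identity of the graded pieces. -/
noncomputable def toGrp {Γ : Type*} [Monoid Γ] [DirectSum.Decomposition 𝒜] (ψ : Λ → Γ) : A →ₗ[k] MonoidAlgebra k Γ :=
  DirectSum.toModule k Λ _ (fun l => (MonoidAlgebra.lsingle (ψ l)) ∘ₗ
    ((Bialgebra.counitAlgHom k A).toLinearMap ∘ₗ (𝒜 l).subtype)) ∘ₗ
  (DirectSum.decomposeLinearEquiv 𝒜).toLinearMap

variable [DirectSum.Decomposition 𝒜]

theorem toGrp_of_mem {Γ : Type*} [Monoid Γ] (ψ : Λ → Γ) {l : Λ} {a : A} (ha : a ∈ 𝒜 l) :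
    toGrp 𝒜 ψ a = MonoidAlgebra.single (ψ l) (Bialgebra.counitAlgHom k A a) := by
  rw [toGrp, LinearMap.comp_apply, LinearEquiv.coe_coe, DirectSum.decomposeLinearEquiv_apply,
    DirectSum.decompose_of_mem 𝒜 ha]
  exact DirectSum.toModule_lof k l _

theorem induction_pieces {p : A → Prop} (h0 : p 0) (hadd : ∀ a b, p a → p b → p (a + b))
    (hpc : ∀ l, ∀ a ∈ 𝒜 l, p a) (a : A) : p a := by
  have ha : a ∈ ⨆ l, 𝒜 l := by
    rw [(DirectSum.Decomposition.isInternal 𝒜).submodule_iSup_eq_top]; trivial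
  exact Submodule.iSup_induction _ (motive := p) ha hpc h0 hadd

variable (h1 : (1 : A) ∈ 𝒜 1) (hmul : ∀ l m, ∀ a ∈ 𝒜 l, ∀ b ∈ 𝒜 m, a * b ∈ 𝒜 (l * m))
  (hΔ : ∀ l, ∀ a ∈ 𝒜 l, Coalgebra.comul (R := k) a ∈ LinearMap.range ((𝒜 l).subtype.lTensor A))

include h1 hmul in
theorem map_mul_toGrp {Γ : Type*} [CommMonoid Γ] (ψ : Λ → Γ)
    (hψ : ∀ l m, ∀ a ∈ 𝒜 l, ∀ b ∈ 𝒜 m, Bialgebra.counitAlgHom k A a ≠ 0 → Bialgebra.counitAlgHom k A b ≠ 0 →
      ψ (l * m) = ψ l * ψ m) (a b : A) : toGrp 𝒜 ψ (a * b) = toGrp 𝒜 ψ a * toGrp 𝒜 ψ b := by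
  revert b
  refine induction_pieces 𝒜 (p := fun a => ∀ b, toGrp 𝒜 ψ (a * b) = toGrp 𝒜 ψ a * toGrp 𝒜 ψ b) ?_ ?_ (fun l a ha => ?_) a
  · intro b; simp
  · intro a a' h h' b; rw [add_mul, map_add, h, h', map_add, add_mul]
  intro b
  refine induction_pieces 𝒜 (p := fun b => toGrp 𝒜 ψ (a * b) = toGrp 𝒜 ψ a * toGrp 𝒜 ψ b) ?_ ?_ (fun m b hb => ?_) b
  · simp
  · intro b b' h h'; rw [mul_add, map_add, h, h', map_add, mul_add]
  rw [toGrp_of_mem 𝒜 ψ (hmul l m a ha b hb), toGrp_of_mem 𝒜 ψ ha, toGrp_of_mem 𝒜 ψ hb,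
    MonoidAlgebra.single_mul_single, map_mul]
  by_cases hla : Bialgebra.counitAlgHom k A a = 0
  · simp [hla]
  by_cases hmb : Bialgebra.counitAlgHom k A b = 0
  · simp [hmb]
  rw [hψ l m a ha b hb hla hmb]

include h1 hmul hΔ in
/-- The bialgebra map to a group algebra. -/
theorem exists_bialgHom {Γ : Type*} [CommMonoid Γ] (ψ : Λ → Γ) (hψ1 : ψ 1 = 1)
    (hψ : ∀ l m, ∀ a ∈ 𝒜 l, ∀ b ∈ 𝒜 m, Bialgebra.counitAlgHom k A a ≠ 0 → Bialgebra.counitAlgHom k A b ≠ 0 →
      ψ (l * m) = ψ l * ψ m) :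
    ∃ φ : A →ₐc[k] MonoidAlgebra k Γ, ∀ l, ∀ a ∈ 𝒜 l,
      φ a = MonoidAlgebra.single (ψ l) (Bialgebra.counitAlgHom k A a) := by
  have hone : toGrp 𝒜 ψ 1 = 1 := by rw [toGrp_of_mem 𝒜 ψ h1, hψ1, map_one]; rfl
  let f : A →ₐ[k] MonoidAlgebra k Γ := AlgHom.ofLinearMap (toGrp 𝒜 ψ) hone (map_mul_toGrp 𝒜 h1 hmul ψ hψ)
  refine ⟨BialgHom.ofAlgHom f ?_ ?_, fun l a ha => toGrp_of_mem 𝒜 ψ ha⟩
  · refine AlgHom.ext (induction_pieces 𝒜 (by simp) (fun a b ha hb => by rw [map_add, map_add, ha, hb])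
      fun l a ha => ?_)
    change Bialgebra.counitAlgHom k (MonoidAlgebra k Γ) (toGrp 𝒜 ψ a) = _
    rw [toGrp_of_mem 𝒜 ψ ha]
    simp
  · refine AlgHom.ext (induction_pieces 𝒜 (by simp) (fun a b ha hb => by rw [map_add, map_add, ha, hb])
      fun l a ha => ?_)
    obtain ⟨t, ht⟩ := hΔ l a ha
    change Algebra.TensorProduct.map f f (Coalgebra.comul (R := k) a) = Coalgebra.comul (R := k) (toGrp 𝒜 ψ a)
    have key : ∀ s : A ⊗[k] (𝒜 l), Algebra.TensorProduct.map f f ((𝒜 l).subtype.lTensor A s) =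
        f (TensorProduct.rid k A (Coalgebra.counit.lTensor A ((𝒜 l).subtype.lTensor A s))) ⊗ₜ[k]
          MonoidAlgebra.single (ψ l) 1 := fun s => by
      induction s using TensorProduct.induction_on with
      | zero => simp
      | tmul p q =>
        rw [LinearMap.lTensor_tmul, Algebra.TensorProduct.map_tmul, LinearMap.lTensor_tmul, TensorProduct.rid_tmul,
          map_smul, TensorProduct.smul_tmul]
        congr 1
        change toGrp 𝒜 ψ (q : A) = _
        rw [toGrp_of_mem 𝒜 ψ q.2, MonoidAlgebra.smul_single, smul_eq_mul, mul_one]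
        rfl
      | add p q hp hq => simp only [map_add, TensorProduct.add_tmul, hp, hq]
    rw [← ht, key, ht, Coalgebra.lTensor_counit_comul, TensorProduct.rid_tmul, one_smul]
    change toGrp 𝒜 ψ a ⊗ₜ[k] _ = _
    rw [toGrp_of_mem 𝒜 ψ ha, MonoidAlgebra.comul_single]
    simp only [CommSemiring.comul_apply, TensorProduct.map_tmul]
    change _ = MonoidAlgebra.single (ψ l) (1 : k) ⊗ₜ[k] MonoidAlgebra.single (ψ l) (Bialgebra.counitAlgHom k A a)
    rw [show MonoidAlgebra.single (ψ l) (Bialgebra.counitAlgHom k A a) =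
      Bialgebra.counitAlgHom k A a • MonoidAlgebra.single (ψ l) (1 : k) by
        rw [MonoidAlgebra.smul_single, smul_eq_mul, mul_one], TensorProduct.smul_tmul]

include h1 hmul hΔ in
/-- A grading which is nontrivial at the identity gives a subgroup `μ_n` of prime order. -/
theorem exists_mu [Algebra.FiniteType k A] {l₀ : Λ} (hl₀ : l₀ ≠ 1) {a₀ : A} (ha₀ : a₀ ∈ 𝒜 l₀)
    (he : Bialgebra.counitAlgHom k A a₀ ≠ 0) :
    ∃ (n : ℕ) (_ : n.Prime) (φ : A →ₐc[k] MonoidAlgebra k (Multiplicative (ZMod n))) (S : Set Λ)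
      (ψ : Λ → Multiplicative (ZMod n)),
      Function.Surjective φ ∧ (∀ l ∈ S, ∃ a ∈ 𝒜 l, Bialgebra.counitAlgHom k A a ≠ 0) ∧
      Subgroup.closure (ψ '' S) = ⊤ := by
  classical
  obtain ⟨Φ, hΦ⟩ := exists_bialgHom 𝒜 h1 hmul hΔ (id : Λ → Λ) rfl (fun _ _ _ _ _ _ _ _ => rfl)
  obtain ⟨gens, hgens⟩ := (Algebra.FiniteType.out : (⊤ : Subalgebra k A).FG)
  let S₀ : Finset Λ := gens.biUnion fun g => (Φ g).coeff.support
  let H : Subgroup Λ := Subgroup.closure (S₀ : Set Λ)
  have hH : ∀ a : A, ↑(Φ a).coeff.support ⊆ (H : Set Λ) := by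
    intro a
    have ha : a ∈ Algebra.adjoin k (gens : Set A) := by rw [hgens]; trivial
    induction ha using Algebra.adjoin_induction with
    | mem x hx =>
      exact fun l hl => Subgroup.subset_closure (Finset.mem_biUnion.2 ⟨x, hx, hl⟩)
    | algebraMap c =>
      rw [AlgHomClass.commutes, MonoidAlgebra.coe_algebraMap, Function.comp_apply]
      intro l hl
      have := Finsupp.support_single_subset hl
      rw [Finset.mem_singleton] at this
      rw [this]; exact H.one_mem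
    | add x y _ _ hx hy =>
      rw [map_add]
      intro l hl
      rcases Finset.mem_union.1 (Finsupp.support_add hl) with h | h
      exacts [hx h, hy h]
    | mul x y _ _ hx hy =>
      rw [map_mul]
      intro l hl
      obtain ⟨p, hp, q, hq, hpq⟩ := Finset.mem_mul.1 (MonoidAlgebra.support_coeff_mul_subset _ _ hl)
      subst hpq
      exact H.mul_mem (hx hp) (hy hq)
  have hmemH : ∀ l, ∀ a ∈ 𝒜 l, Bialgebra.counitAlgHom k A a ≠ 0 → l ∈ H := fun l a ha hne => hH a (by
    rw [hΦ l a ha, MonoidAlgebra.coeff_single, Finsupp.support_single_ne_zero _ hne]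
    simp)
  haveI : Group.FG H := Group.closure_finset_fg _
  haveI : Nontrivial H := ⟨⟨⟨l₀, hmemH l₀ a₀ ha₀ he⟩, 1, fun e => hl₀ (congrArg Subtype.val e)⟩⟩
  obtain ⟨n, hn, ψ, hψ⟩ := exists_surjective_zmod (H := H)
  haveI : NeZero n := ⟨hn.ne_zero⟩
  let ψ' : Λ → Multiplicative (ZMod n) := fun l => if h : l ∈ H then ψ ⟨l, h⟩ else 1
  have hψ'1 : ψ' 1 = 1 := by
    simp only [ψ', H.one_mem, dif_pos]
    exact map_one ψ
  have hψ' : ∀ l m, ∀ a ∈ 𝒜 l, ∀ b ∈ 𝒜 m, Bialgebra.counitAlgHom k A a ≠ 0 → Bialgebra.counitAlgHom k A b ≠ 0 →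
      ψ' (l * m) = ψ' l * ψ' m := by
    intro l m a ha b hb hla hmb
    have hl := hmemH l a ha hla
    have hm := hmemH m b hb hmb
    simp only [ψ', hl, hm, H.mul_mem hl hm, dif_pos]
    exact map_mul ψ ⟨l, hl⟩ ⟨m, hm⟩
  obtain ⟨φ, hφ⟩ := exists_bialgHom 𝒜 h1 hmul hΔ ψ' hψ'1 hψ'
  have hS₀ : ∀ l ∈ S₀, ∃ a ∈ 𝒜 l, Bialgebra.counitAlgHom k A a ≠ 0 := by
    intro l hl
    by_contra! hno
    obtain ⟨x, -, hx⟩ := Finset.mem_biUnion.1 hl
    refine Finsupp.mem_support_iff.1 hx ?_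
    refine induction_pieces 𝒜 (p := fun y => (Φ y).coeff l = 0) ?_ ?_ (fun m y hy => ?_) x
    · simp
    · intro y z hy hz
      rw [map_add, MonoidAlgebra.coeff_add, Finsupp.add_apply, hy, hz, add_zero]
    · rw [hΦ m y hy, MonoidAlgebra.coeff_single, Finsupp.single_apply]
      split_ifs with h
      · have h' : m = l := h
        subst h'
        exact hno y hy
      · rfl
  have hgen : Subgroup.closure (ψ' '' (S₀ : Set Λ)) = ⊤ := by
    rw [eq_top_iff]
    rintro γ -
    obtain ⟨⟨l, hl⟩, rfl⟩ := hψ γ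
    induction hl using Subgroup.closure_induction with
    | mem x hx =>
      refine Subgroup.subset_closure ⟨x, hx, ?_⟩
      exact dif_pos (Subgroup.subset_closure hx)
    | one => exact (map_one ψ).symm ▸ one_mem _
    | mul x y hx hy h h' => exact (map_mul ψ ⟨x, hx⟩ ⟨y, hy⟩).symm ▸ mul_mem h h'
    | inv x hx h => exact (map_inv ψ ⟨x, hx⟩).symm ▸ inv_mem h
  refine ⟨n, hn, φ, S₀, ψ', ?_, hS₀, hgen⟩
  let R := (φ : A →ₐ[k] MonoidAlgebra k (Multiplicative (ZMod n))).range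
  let M : Submonoid (Multiplicative (ZMod n)) :=
    { carrier := {γ | MonoidAlgebra.single γ (1 : k) ∈ R}
      one_mem' := R.one_mem
      mul_mem' := fun {a b} ha hb => by
        have h := R.mul_mem ha hb
        rwa [MonoidAlgebra.single_mul_single, one_mul] at h }
  have hM : ∀ γ, γ ∈ M := fun γ => by
    have hle : (Subgroup.closure (ψ' '' (S₀ : Set Λ))).toSubmonoid ≤ M := by
      rw [Subgroup.closure_toSubmonoid_of_finite, Submonoid.closure_le]
      rintro _ ⟨l, hl, rfl⟩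
      obtain ⟨a, ha, hne⟩ := hS₀ l hl
      refine ⟨(Bialgebra.counitAlgHom k A a)⁻¹ • a, ?_⟩
      change φ ((Bialgebra.counitAlgHom k A a)⁻¹ • a) = _
      rw [map_smul, hφ l a ha, MonoidAlgebra.smul_single, smul_eq_mul, inv_mul_cancel₀ hne]
    exact hle (by rw [hgen]; trivial)
  intro z
  have hz : z ∈ R := by
    induction z using MonoidAlgebra.induction_on with
    | of γ => exact hM γ
    | add a b ha hb => exact R.add_mem ha hb
    | smul c a ha => exact R.smul_mem ha c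
  exact hz

end

end GrothLib.UnipMu16
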