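import Groth.Agent.Lib.UnipMu16.Grade
import Groth.Agent.Lib.HopfAG.LieKolchin
import Groth.Agent.Lib.Comod.Semi
import Mathlib.LinearAlgebra.Eigenspace.Triangularizable
import Mathlib.RingTheory.Flat.Basic

/-!
# A point which is not unipotent gives a subgroup `μ_n`
-/

universe u

set_option linter.style.haveILetI false

open TensorProduct HopfRep WithConv GrothLib.Hopf GrothLib.Comodule

namespace GrothLib.UnipMu16

variable {k : Type u} [Field k] {A : Type u} [CommRing A] [HopfAlgebra k A]

/-- An equivariant endomorphism respects the pieces cut out by polynomials in it. -/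
theorem comul_mem_ker {E : Module.End k A}
    (hE : ∀ a, Coalgebra.comul (R := k) (E a) = E.lTensor A (Coalgebra.comul (R := k) a)) {a : A} (ha : E a = 0) :
    Coalgebra.comul (R := k) a ∈ LinearMap.range ((LinearMap.ker E).subtype.lTensor A) := by
  rw [← ((Module.Flat.lTensor_exact A (LinearMap.exact_subtype_ker_map E))).linearMap_ker_eq,
    LinearMap.mem_ker, ← hE, ha, map_zero]

/-- The right translation by a point, as an algebra map. -/
noncomputable def transl (g : A →ₐ[k] k) : A →ₐ[k] A :=
  (Algebra.TensorProduct.lift (AlgHom.id k A) ((Algebra.ofId k A).comp g) fun _ _ => Commute.all _ _).comp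
    (Bialgebra.comulAlgHom k A)

theorem transl_eq_act (g : A →ₐ[k] k) (a : A) :
    transl g a = HopfRep.Comod.act k A A g a := by
  change Algebra.TensorProduct.lift (AlgHom.id k A) ((Algebra.ofId k A).comp g) (fun _ _ => Commute.all _ _)
      (Coalgebra.comul (R := k) a) = TensorProduct.rid k A (g.toLinearMap.lTensor A (Coalgebra.comul (R := k) a))
  induction Coalgebra.comul (R := k) a using TensorProduct.induction_on with
  | zero => simp
  | tmul p q => simp [Algebra.ofId_apply, Algebra.smul_def, mul_comm]
  | add p q hp hq => simp only [map_add, hp, hq]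

theorem comul_act (g : A →ₐ[k] k) (a : A) :
    Coalgebra.comul (R := k) (HopfRep.Comod.act k A A g a) =
      (HopfRep.Comod.act k A A g).lTensor A (Coalgebra.comul (R := k) a) := by
  refine (GrothLib.Dense.coact_op (V := A) g.toLinearMap a).trans ?_
  change LinearMap.lTensor A ((TensorProduct.rid k A).toLinearMap ∘ₗ g.toLinearMap.lTensor A)
    (LinearMap.lTensor A (Coalgebra.comul (R := k) (A := A)) (Coalgebra.comul (R := k) a)) = _
  rw [← LinearMap.lTensor_comp_apply]
  rfl

variable (g : A →ₐ[k] k)

local notation "r" => (HopfRep.Comod.act k A A g)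

theorem mul_mem_maxGen (l m : k) {a b : A} (ha : a ∈ Module.End.maxGenEigenspace r l)
    (hb : b ∈ Module.End.maxGenEigenspace r m) : a * b ∈ Module.End.maxGenEigenspace r (l * m) := by
  rw [Module.End.mem_maxGenEigenspace] at ha hb
  obtain ⟨n₁, h₁⟩ := ha
  obtain ⟨n₂, h₂⟩ := hb
  induction hN : n₁ + n₂ using Nat.strong_induction_on generalizing n₁ n₂ a b with
  | _ N ih =>
    rcases Nat.eq_zero_or_pos n₁ with rfl | hn₁
    · have h : a = 0 := by simpa using h₁
      rw [h, zero_mul]; exact zero_mem _
    rcases Nat.eq_zero_or_pos n₂ with rfl | hn₂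
    · have h : b = 0 := by simpa using h₂
      rw [h, mul_zero]; exact zero_mem _
    have hstep : (r - (l * m) • (1 : Module.End k A)) (a * b) =
        (r - l • (1 : Module.End k A)) a * r b + l • (a * (r - m • (1 : Module.End k A)) b) := by
      simp only [LinearMap.sub_apply, LinearMap.smul_apply, Module.End.one_apply, ← transl_eq_act, map_mul]
      simp only [Algebra.smul_def, map_mul]
      ring
    have hmem : (r - (l * m) • (1 : Module.End k A)) (a * b) ∈ Module.End.maxGenEigenspace r (l * m) := by
      rw [hstep]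
      refine add_mem (ih (n₁ - 1 + n₂) (by omega) (n₁ - 1) ?_ n₂ ?_ rfl)
        (Submodule.smul_mem _ _ (ih (n₁ + (n₂ - 1)) (by omega) n₁ h₁ (n₂ - 1) ?_ rfl))
      · rw [← Module.End.mul_apply, ← pow_succ, show n₁ - 1 + 1 = n₁ from by omega]; exact h₁
      · have hc : Commute ((r - m • (1 : Module.End k A)) ^ n₂) r :=
          ((Commute.refl r).sub_left ((Commute.one_left r).smul_left m)).pow_left n₂
        rw [← Module.End.mul_apply, hc.eq, Module.End.mul_apply, h₂, map_zero]
      · rw [← Module.End.mul_apply, ← pow_succ, show n₂ - 1 + 1 = n₂ from by omega]; exact h₂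
    rw [Module.End.mem_maxGenEigenspace] at hmem ⊢
    obtain ⟨N', hN'⟩ := hmem
    exact ⟨N' + 1, by rw [pow_succ, Module.End.mul_apply]; exact hN'⟩

theorem comul_mem_maxGen (l : k) {a : A} (ha : a ∈ Module.End.maxGenEigenspace r l) :
    Coalgebra.comul (R := k) a ∈ LinearMap.range ((Module.End.maxGenEigenspace r l).subtype.lTensor A) := by
  rw [Module.End.mem_maxGenEigenspace] at ha
  obtain ⟨n, hn⟩ := ha
  have hE : ∀ j : ℕ, ∀ b, Coalgebra.comul (R := k) (((r - l • (1 : Module.End k A)) ^ j) b) =
      ((r - l • (1 : Module.End k A)) ^ j).lTensor A (Coalgebra.comul (R := k) b) := fun j => by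
    induction j with
    | zero => intro b; rw [pow_zero, Module.End.one_eq_id, LinearMap.lTensor_id]; rfl
    | succ j ihj =>
      intro b
      rw [pow_succ, Module.End.mul_apply, ihj, Module.End.mul_eq_comp, LinearMap.lTensor_comp, LinearMap.comp_apply]
      congr 1
      rw [LinearMap.sub_apply, map_sub, comul_act, LinearMap.smul_apply, map_smul, LinearMap.lTensor_sub,
        LinearMap.sub_apply, LinearMap.lTensor_smul, LinearMap.smul_apply, Module.End.one_eq_id, LinearMap.lTensor_id]
      rfl
  refine GrothLib.Comodule.range_subtype_rTensor_mono_left (A := A) ?_ (comul_mem_ker (hE n) hn)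
  intro b hb
  rw [Module.End.mem_maxGenEigenspace]
  exact ⟨n, hb⟩

variable [IsAlgClosed k]

theorem iSup_maxGen_eq_top : ⨆ l : k, Module.End.maxGenEigenspace r l = ⊤ := by
  rw [eq_top_iff]
  intro a _
  obtain ⟨U, hUfin, haU, hU⟩ := exists_finite_subcomod (k := k) (C := A) (V := A) a
  haveI := hUfin
  have hinv : ∀ x ∈ U, r x ∈ U := fun x hx => GrothLib.Hopf.Comod.rid_lTensor_mem (hU x hx) _
  have h : (⟨a, haU⟩ : U) ∈ ⨆ l, Module.End.maxGenEigenspace (LinearMap.restrict r hinv) l := by
    rw [Module.End.iSup_maxGenEigenspace_eq_top]; trivial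
  refine Submodule.iSup_induction _ (motive := fun x : U => (x : A) ∈ ⨆ l, Module.End.maxGenEigenspace r l) h
    (fun l x hx => ?_) (zero_mem _) (fun x y hx hy => add_mem hx hy)
  refine Submodule.mem_iSup_of_mem l ?_
  rw [Module.End.maxGenEigenspace, Module.End.genEigenspace_restrict] at hx
  exact hx

theorem exists_mu_or_unipotent [Algebra.FiniteType k A] (g : A →ₐ[k] k) :
    (∀ (V : Type u) [AddCommGroup V] [Module k V] [HopfRep.Comod k A V], Module.Finite k V →
      IsNilpotent (HopfRep.Comod.act k A V g - LinearMap.id)) ∨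
    ∃ n : ℕ, n.Prime ∧ ∃ φ : A →ₐc[k] MonoidAlgebra k (Multiplicative (ZMod n)), Function.Surjective φ := by
  classical
  let R := HopfRep.Comod.act k A A g
  have hinj : Function.Injective R := fun x y h => by
    have e : HopfRep.Comod.act k A A (g.comp (HopfAlgebra.antipodeAlgHom k A)) * R = 1 := by
      have h1 := GrothLib.LieKolchin.act_mul (V := A) (toConv (g.comp (HopfAlgebra.antipodeAlgHom k A))) (toConv g)
      rw [show toConv (g.comp (HopfAlgebra.antipodeAlgHom k A)) * toConv g = 1 from Hopf.comp_antipode_mul g,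
        GrothLib.LieKolchin.act_one] at h1
      exact h1.symm
    have h2 := congrArg (HopfRep.Comod.act k A A (g.comp (HopfAlgebra.antipodeAlgHom k A))) h
    rwa [← Module.End.mul_apply, ← Module.End.mul_apply, e] at h2
  let 𝒜 : kˣ → Submodule k A := fun l => Module.End.maxGenEigenspace R (l : k)
  have h0 : Module.End.maxGenEigenspace R 0 = ⊥ := by
    rw [eq_bot_iff]
    intro a ha
    rw [Module.End.mem_maxGenEigenspace] at ha
    obtain ⟨n, hn⟩ := ha
    rw [zero_smul, sub_zero, Module.End.coe_pow] at hn
    exact hinj.iterate n (hn.trans (Function.iterate_fixed (map_zero R) n).symm)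
  have htop : ⨆ l, 𝒜 l = ⊤ := by
    rw [eq_top_iff, ← iSup_maxGen_eq_top g]
    refine iSup_le fun l => ?_
    by_cases hl : l = 0
    · rw [hl, h0]; exact bot_le
    · exact le_iSup 𝒜 (Units.mk0 l hl)
  have hind : iSupIndep 𝒜 := (Module.End.independent_maxGenEigenspace R).comp Units.val_injective
  haveI : DirectSum.Decomposition 𝒜 :=
    ((DirectSum.isInternal_submodule_iff_iSupIndep_and_iSup_eq_top 𝒜).2 ⟨hind, htop⟩).chooseDecomposition
  by_cases hne : ∃ l : kˣ, l ≠ 1 ∧ ∃ a ∈ 𝒜 l, Bialgebra.counitAlgHom k A a ≠ 0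
  · obtain ⟨l, hl, a, ha, he⟩ := hne
    have h1 : (1 : A) ∈ 𝒜 1 := by
      change (1 : A) ∈ Module.End.maxGenEigenspace R ((1 : kˣ) : k)
      rw [Module.End.mem_maxGenEigenspace]
      refine ⟨1, ?_⟩
      rw [pow_one, LinearMap.sub_apply, show R (1 : A) = 1 by
        rw [← transl_eq_act, map_one], Units.val_one, one_smul, Module.End.one_apply, sub_self]
    obtain ⟨n, hn, φ, -, -, hφ, -, -⟩ := exists_mu 𝒜 h1
      (fun l m a ha b hb => by
        change _ ∈ Module.End.maxGenEigenspace R ((l * m : kˣ) : k)
        rw [Units.val_mul]; exact mul_mem_maxGen g _ _ ha hb)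
      (fun l a ha => comul_mem_maxGen g _ ha) hl ha he
    exact Or.inr ⟨n, hn, φ, hφ⟩
  refine Or.inl fun V _ _ _ hfin => ?_
  push Not at hne
  have hall : ∀ a : A, a ∈ 𝒜 1 := fun a => by
    refine induction_pieces 𝒜 (p := fun a => a ∈ 𝒜 1) (zero_mem _) (fun _ _ => add_mem) (fun l a ha => ?_) a
    by_cases hl : l = 1
    · rw [← hl]; exact ha
    have h : a = 0 := by
      obtain ⟨t, ht⟩ := comul_mem_maxGen g (l : k) ha
      have h2 : Coalgebra.counit.lTensor A ((Module.End.maxGenEigenspace R (l : k)).subtype.lTensor A t) = 0 := by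
        rw [← LinearMap.comp_apply, ← LinearMap.lTensor_comp,
          show (Coalgebra.counit (R := k) (A := A)) ∘ₗ (Module.End.maxGenEigenspace R (l : k)).subtype = 0 from
            LinearMap.ext fun b => hne l hl b b.2, LinearMap.lTensor_zero, LinearMap.zero_apply]
      rw [ht, Coalgebra.lTensor_counit_comul] at h2
      have h3 := congrArg (TensorProduct.rid k A) h2
      rwa [TensorProduct.rid_tmul, one_smul, map_zero] at h3
    rw [h]; exact zero_mem _
  let Q := R - 1
  have hQ : ∀ a, ∃ n : ℕ, (Q ^ n) a = 0 := fun a => by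
    have h : a ∈ Module.End.maxGenEigenspace R ((1 : kˣ) : k) := hall a
    rw [Module.End.mem_maxGenEigenspace, Units.val_one, one_smul] at h
    exact h
  let T := HopfRep.Comod.act k A V g - LinearMap.id
  have hcf : ∀ (φ : Module.Dual k V) (j : ℕ) (v : V),
      cfMap (C := A) φ ((T ^ j) v) = (Q ^ j) (cfMap φ v) := fun φ j => by
    induction j with
    | zero => intro v; rfl
    | succ j ihj =>
      intro v
      rw [pow_succ, pow_succ, Module.End.mul_apply, Module.End.mul_apply, ihj]
      congr 1
      rw [LinearMap.sub_apply, LinearMap.id_apply, map_sub]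
      change _ = R (cfMap φ v) - cfMap φ v
      congr 1
      change cfMap φ (GrothLib.Hopf.Comod.op g.toLinearMap v) = GrothLib.Hopf.Comod.op g.toLinearMap (cfMap φ v)
      exact (op_map_of_isComodHom (isComodHom_cfMap φ) g.toLinearMap v).symm
  let b := Module.finBasis k V
  choose N hN using fun p : Fin (Module.finrank k V) × Fin (Module.finrank k V) =>
    hQ (cfMap (C := A) (b.coord p.1) (b p.2))
  refine ⟨Finset.univ.sup N, b.ext fun j => b.ext_elem fun i => ?_⟩
  have hle : N (i, j) ≤ Finset.univ.sup N := Finset.le_sup (Finset.mem_univ _)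
  have h := congrArg (Bialgebra.counitAlgHom k A) (hcf (b.coord i) (Finset.univ.sup N) (b j))
  rw [show (Q ^ Finset.univ.sup N) (cfMap (C := A) (b.coord i) (b j)) = 0 by
    rw [show Finset.univ.sup N = Finset.univ.sup N - N (i, j) + N (i, j) from by omega, pow_add,
      Module.End.mul_apply, hN (i, j), map_zero], map_zero, Bialgebra.counitAlgHom_apply, counit_cfMap] at h
  rw [LinearMap.zero_apply, map_zero, Finsupp.zero_apply]
  exact h

end GrothLib.UnipMu16
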